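import Groth.Agent.L10.FMK.Gamma

/-!
Sheaf cohomology vanishes with the derived functors of global sections.
-/

set_option autoImplicit false
set_option linter.style.haveILetI false
set_option backward.defeqAttrib.useBackward true
set_option backward.isDefEq.respectTransparency false
set_option backward.isDefEq.respectTransparency.types false

universe u

open CategoryTheory CategoryTheory.Limits AlgebraicGeometry

namespace Groth.L29.IdealGV

open Groth.L16.CohLinear

variable {X : Scheme.{u}}

theorem subsingleton_HH_of_isZero_gamma [HasInjectiveResolutions X.Modules] [EnoughInjectives X.Modules]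
    [HasDerivedCategory X.Modules] [HasDerivedCategory AddCommGrpCat.{u}] :
    ∀ (p : ℕ) (M : X.Modules), IsZero (((DCoh.gammaAb X).rightDerived (p + 1)).obj M) →
      Subsingleton (Coh.HH X M (p + 1)) := by
  intro p
  induction p with
  | zero =>
    intro M h
    have hT := Groth.L22.PDual.shortExact_cokernel_ι M
    haveI := Groth.L00.RDerLES.epi_map_g (DCoh.gammaAb X) hT 0 h
    have he : Epi ((DCoh.gammaAb X).map (cokernel.π (Injective.ι M))) :=
      ((MorphismProperty.epimorphisms _).arrow_mk_iso_iff
        (Arrow.isoMk ((DCoh.gammaAb X).rightDerivedZeroIsoSelf.app _)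
          ((DCoh.gammaAb X).rightDerivedZeroIsoSelf.app _)
          ((DCoh.gammaAb X).rightDerivedZeroIsoSelf.hom.naturality _).symm)).1 ‹_›
    rw [AddCommGrpCat.epi_iff_surjective] at he
    refine subsingleton_of_forall_eq 0 fun z => ?_
    obtain ⟨y, rfl⟩ := (exact_delta_hmap hT 0 z).1
      ((Groth.L22.PDual.subsingleton_HH_injective _ 0).elim _ _)
    refine (exact_hmap_delta hT 0 y).2 ?_
    obtain ⟨s, hs⟩ := he (Groth.L21.RR.e0 _ y)
    refine ⟨(Groth.L21.RR.e0 _).symm s, (Groth.L21.RR.e0 _).injective ?_⟩
    rw [Groth.L21.RR.e0_hmap, AddEquiv.apply_symm_apply]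
    exact hs
  | succ p ih =>
    intro M h
    have hT := Groth.L22.PDual.shortExact_cokernel_ι M
    haveI := Groth.L00.RDerLES.epi_map_g (DCoh.gammaAb X) hT (p + 1) h
    have hQ := ih _ (IsZero.of_epi (((DCoh.gammaAb X).rightDerived (p + 1)).map (cokernel.π (Injective.ι M)))
      (Functor.isZero_rightDerived_obj_injective_succ _ p _))
    refine subsingleton_of_forall_eq 0 fun z => ?_
    obtain ⟨y, rfl⟩ := (exact_delta_hmap hT (p + 1) z).1
      ((Groth.L22.PDual.subsingleton_HH_injective _ (p + 1)).elim _ _)
    rw [hQ.elim y 0, map_zero]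

end Groth.L29.IdealGV
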