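import Groth.Agent.L29.IdealGV.GammaConv
import Groth.Agent.L10.FMK.Graded
import Groth.Agent.L10.FMK.SuppDim
import Groth.Agent.L10.RDerTri
import Groth.Agent.L29.DCoh.Amplitude
import Groth.Agent.L29.DCoh.QRlim

/-!
Hypercohomology of a complex whose negative cohomology has small support.
-/

set_option autoImplicit false
set_option linter.style.haveILetI false
set_option backward.defeqAttrib.useBackward true
set_option backward.isDefEq.respectTransparency false
set_option backward.isDefEq.respectTransparency.types false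

universe u

open CategoryTheory CategoryTheory.Limits AlgebraicGeometry TopologicalSpace

attribute [local instance] HasDerivedCategory.standard

noncomputable section

namespace Groth.L29.IdealGV

open Groth.L29.DC Groth.L10

variable {X : Scheme.{u}}

/-- no cohomology above the dimension of the support -/
theorem subsingleton_HH_of_supp [NoetherianSpace ↥X] (M : X.Modules) (m : ℕ)
    (hdim : ∀ x : X, x ∈ CohB1.support M → Groth.L22.GV.cdim (X := X.toTopCat) x ≤ (m : WithBot ℕ∞))
    (p : ℕ) (hp : m < p) : Subsingleton (Coh.HH X M p) := by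
  haveI : NoetherianSpace X.toTopCat := ‹NoetherianSpace ↥X›
  haveI : QuasiSober X.toTopCat := inferInstanceAs (QuasiSober ↥X)
  haveI : T0Space X.toTopCat := inferInstanceAs (T0Space ↥X)
  refine Groth.L22.GV.subsingleton_H_of_dimLE m (Coh.toAb M) (fun x hx => ?_) p hp
  by_contra hne
  exact (hdim x hne).not_gt hx

open Groth.L16.CohLinear in
theorem subsingleton_HH_of_epi [NoetherianSpace ↥X] {A B : X.Modules} (l : A ⟶ B) [Epi l]
    (hdim : ∀ x : X, x ∈ CohB1.support (kernel l) → Groth.L22.GV.cdim (X := X.toTopCat) x ≤ (1 : WithBot ℕ∞))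
    (i : ℕ) (hi : 1 ≤ i) (h : Subsingleton (Coh.HH X A i)) : Subsingleton (Coh.HH X B i) := by
  have hS : (ShortComplex.mk (kernel.ι l) l (kernel.condition l)).ShortExact :=
    { exact := ShortComplex.exact_of_f_is_kernel _ (kernelIsKernel _) }
  refine subsingleton_of_forall_eq 0 fun z => ?_
  obtain ⟨y, rfl⟩ := (exact_hmap_delta hS i z).1
    ((subsingleton_HH_of_supp (kernel l) 1 (by exact_mod_cast hdim) (i + 1) (by omega)).elim _ _)
  rw [h.elim y 0, map_zero]

local notation "tt" => DerivedCategory.TStructure.t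

set_option maxHeartbeats 800000 in
/-- vanishing hypercohomology passes to the top cohomology sheaf -/
theorem subsingleton_HH_of_hyper [NoetherianSpace ↥X] [DCoh.HasRΓ X] (K : DCoh.D X) [K.IsLE 0] (a : ℤ) [K.IsGE a]
    (hdim : ∀ j : ℤ, j < 0 → ∀ x : X, x ∈ CohB1.support (DCoh.HD K j) →
      Groth.L22.GV.cdim (X := X.toTopCat) x ≤ (1 : WithBot ℕ∞))
    (i : ℕ) (hi : 1 ≤ i)
    (h : IsZero ((DerivedCategory.homologyFunctor AddCommGrpCat.{u} (i : ℤ)).obj ((DCoh.RΓ X).obj K))) :
    Subsingleton (Coh.HH X (DCoh.HD K 0) i) := by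
  haveI := QRlim.enoughKInj X
  haveI : EnoughInjectives X.Modules := (Groth.L10.ModRDer.insts X.sheaf).1
  haveI : HasInjectiveResolutions X.Modules := inferInstance
  haveI := fun p => Groth.L00.RDerLES.additive (DCoh.gammaAb X) p
  let α := (DCoh.gammaKh X).totalRightDerivedUnit DerivedCategory.Qh (HomotopyCategory.quasiIso X.Modules (ComplexShape.up ℤ))
  let L := ((tt).truncLT 0).obj K
  let R := ((tt).truncGE 0).obj K
  obtain ⟨δ, hT⟩ := RDerTri.exists_triangle α _ ((tt).triangleLTGE_distinguished 0 K)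
  haveI hLle : L.IsLE (-1) := (tt).isLE_truncLT_obj _ _ _ (by omega)
  have hL0 : IsZero ((DerivedCategory.homologyFunctor AddCommGrpCat.{u} ((i : ℤ) + 1)).obj ((DCoh.RΓ X).obj L)) := by
    refine Groth.L10.FMK.isZero_H_of_graded (F := DCoh.gammaAb X) α (-1) _ (-a).toNat L ?_ hLle
      fun q hq1 hq2 p hp => ?_
    · refine (DerivedCategory.isGE_iff _ _).2 fun j hj => ?_
      have := isIso_H_ι 0 j (by omega) K
      exact (DerivedCategory.isZero_of_isGE K a j (by omega)).of_iso
        (asIso ((DerivedCategory.homologyFunctor X.Modules j).map (((tt).truncLTι 0).app K)))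
    · have := isIso_H_ι 0 q (by omega) K
      obtain ⟨p', rfl⟩ : ∃ p', p = p' + 1 := ⟨p - 1, by omega⟩
      exact (Groth.L10.FMK.isZero_gamma_rightDerived p' _
        (subsingleton_HH_of_supp (DCoh.HD K q) 1 (by exact_mod_cast hdim q (by omega)) (p' + 1) (by omega))).of_iso
        (((DCoh.gammaAb X).rightDerived (p' + 1)).mapIso
          (asIso ((DerivedCategory.homologyFunctor X.Modules q).map (((tt).truncLTι 0).app K))))
  have hR : IsZero ((DerivedCategory.homologyFunctor AddCommGrpCat.{u} (i : ℤ)).obj ((DCoh.RΓ X).obj R)) :=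
    (DerivedCategory.HomologySequence.exact₃ _ hT (i : ℤ) ((i : ℤ) + 1) rfl).isZero_of_both_zeros
      (h.eq_of_src _ _) (hL0.eq_of_tgt _ _)
  haveI : R.IsLE 0 := (DerivedCategory.isLE_iff _ _).2 fun j hj => by
    have := Groth.L10.isIso_H_π 0 j (by omega) K
    exact (DerivedCategory.isZero_of_isLE K 0 j hj).of_iso
      (asIso ((DerivedCategory.homologyFunctor X.Modules j).map (((tt).truncGEπ 0).app K))).symm
  obtain ⟨eR⟩ := exists_iso_single_H R 0
  obtain ⟨-, hp⟩ := RDerTri.isGE_single α (DCoh.HD R 0)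
  have := Groth.L10.isIso_H_π 0 0 (by omega) K
  obtain ⟨i', rfl⟩ : ∃ i', i = i' + 1 := ⟨i - 1, by omega⟩
  refine subsingleton_HH_of_isZero_gamma i' (DCoh.HD K 0) (IsZero.of_iso ?_
    (((DCoh.gammaAb X).rightDerived (i' + 1)).mapIso
      (asIso ((DerivedCategory.homologyFunctor X.Modules 0).map (((tt).truncGEπ 0).app K)))))
  exact (hR.of_iso ((DerivedCategory.homologyFunctor AddCommGrpCat.{u} ((i' + 1 : ℕ) : ℤ)).mapIso
    ((DCoh.RΓ X).mapIso eR.symm))).of_iso (hp (i' + 1)).some.symm

end Groth.L29.IdealGV
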