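import Groth.Agent.Lead.LTMod
import Groth.Agent.L29.DCoh.Amplitude
import Groth.Agent.L12.RR.Def.Lines
import Groth.Agent.L03.AdjLin.Tools
import Groth.Agent.L29.K.CohSupp
import Groth.Agent.L16.Rees.PushExact

/-!
The tensor product of two ideals: the multiplication map, and the derived tensor product off the second support.
-/

set_option autoImplicit false
set_option linter.style.haveILetI false
set_option backward.defeqAttrib.useBackward true
set_option backward.isDefEq.respectTransparency false
set_option backward.isDefEq.respectTransparency.types false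

universe u

open CategoryTheory CategoryTheory.Limits AlgebraicGeometry TopologicalSpace Opposite

attribute [local instance] HasDerivedCategory.standard

noncomputable section

namespace Groth.L29.IdealGV

open Groth.L00.Tensor (tensorMap tensorIso tensorUnitLeft tensorUnitRight tensorAssoc tensorComm)
open Groth.L00 Groth.L29.DC
open Groth.L18.GenLoc (tens)
open Groth.Agent.L19.IdealInvertible (io io_smul)

variable {X : Scheme.{u}}

theorem tensorRightMod_map_eq (B : X.Modules) {A A' : X.Modules} (g : A ⟶ A') :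
    (DCoh.tensorRightMod B).map g = tensorMap g (𝟙 B) := by
  refine congrArg (Groth.L00.Tensor.shf X).map ?_
  rw [CategoryTheory.Functor.map_id]
  exact (MonoidalCategory.tensorHom_id _ _).symm

theorem contr_natural {B : X.Modules} (φ : B ⟶ Coh.structureModule X) {M N : X.Modules} (g : M ⟶ N) :
    tensorMap g (𝟙 B) ≫ tensorMap (𝟙 N) φ ≫ (tensorUnitRight N).hom =
      (tensorMap (𝟙 M) φ ≫ (tensorUnitRight M).hom) ≫ g := by
  rw [← Category.assoc, ← Groth.L00.Tensor.tensorMap_comp, Category.comp_id, Category.id_comp, Category.assoc,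
    ← Groth.L20.ResDescent.tensorUnitRight_natural, ← Category.assoc, ← Groth.L00.Tensor.tensorMap_comp,
    Category.id_comp, Category.comp_id]

/-- contraction of a module with a map to the structure sheaf -/
def contr {B : X.Modules} (φ : B ⟶ Coh.structureModule X) : DCoh.tensorRightMod B ⟶ 𝟭 X.Modules where
  app M := tensorMap (𝟙 M) φ ≫ (tensorUnitRight M).hom
  naturality _ _ g :=
    (congrArg (fun t => t ≫ _) (tensorRightMod_map_eq B g)).trans (contr_natural φ g)

theorem isIso_stalk_contr {B : X.Modules} (φ : B ⟶ Coh.structureModule X) (x : X)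
    (hφ : Function.Bijective ((Stk.F X x).map φ).hom) (M : X.Modules) :
    IsIso ((Stk.F X x).map ((contr φ).app M)) := by
  have h2 : IsIso ((Stk.F X x).map (tensorMap (𝟙 M) φ)) := by
    haveI : IsIso (ModuleCat.ofHom (TensorProduct.map ((Stk.F X x).map (𝟙 M)).hom ((Stk.F X x).map φ).hom)) := by
      rw [ConcreteCategory.isIso_iff_bijective]
      exact (TensorProduct.congr (LinearEquiv.ofBijective ((Stk.F X x).map (𝟙 M)).hom
        (ConcreteCategory.bijective_of_isIso ((Stk.F X x).map (𝟙 M)))) (LinearEquiv.ofBijective _ hφ)).bijective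
    have h := Stk.τ_natural (x := x) (𝟙 M) φ
    rw [show (Stk.F X x).map (tensorMap (𝟙 M) φ) = (Stk.τ x M B).inv ≫
      ModuleCat.ofHom (TensorProduct.map ((Stk.F X x).map (𝟙 M)).hom ((Stk.F X x).map φ).hom) ≫
        (Stk.τ x M (Coh.structureModule X)).hom by rw [h, Iso.inv_hom_id_assoc]]
    infer_instance
  rw [show (contr φ).app M = tensorMap (𝟙 M) φ ≫ (tensorUnitRight M).hom from rfl, Functor.map_comp]
  infer_instance

theorem injective_idealModι (J : X.IdealSheafData) (x : X) :
    Function.Injective ((Stk.F X x).map (ClSub.idealModι J)).hom := by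
  haveI : Mono (ClSub.idealModι J) := inferInstanceAs (Mono (kernel.ι (ClSub.toSubscheme J)))
  exact (ModuleCat.mono_iff_injective _).1 inferInstance

theorem bijective_idealModι (J : X.IdealSheafData) {x : X} (hx : x ∉ J.support) :
    Function.Bijective ((Stk.F X x).map (ClSub.idealModι J)).hom :=
  ⟨injective_idealModι J x, Groth.L03.AdjLin.st_idealModι_surjective J hx⟩

/-- the degree zero homology of a complex in degrees `≤ 0` -/
theorem nonempty_homology_zero {C : Type*} [Category C] [Abelian C] (K : CochainComplex C ℤ) [K.IsStrictlyLE 0] :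
    Nonempty (K.homology 0 ≅ cokernel (K.d (-1) 0)) := by
  haveI := K.isIso_homologyι 0 1 (by simp)
    ((K.isZero_of_isStrictlyLE 0 1 (by omega)).eq_of_tgt _ _)
  exact ⟨asIso (K.homologyι 0) ≪≫
    IsColimit.coconePointUniqueUpToIso (K.opcyclesIsCokernel (-1) 0 (by simp)) (colimit.isColimit (parallelPair (K.d (-1) 0) 0))⟩

set_option maxHeartbeats 800000 in
/-- derived tensor product of two modules: degree zero, and vanishing where the second is trivial -/
theorem derived_tensor (A B : X.Modules) [DCoh.HasLTensorCx (Groth.Lead.LTMod.S0 B)] :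
    ((DCoh.LTensorCx (Groth.Lead.LTMod.S0 B)).obj (DCoh.inD X A)).IsLE 0 ∧
    Nonempty (DCoh.HD ((DCoh.LTensorCx (Groth.Lead.LTMod.S0 B)).obj (DCoh.inD X A)) 0 ≅ CohB1.tensorMod A B) ∧
    ∀ (φ : B ⟶ Coh.structureModule X) (x : X), Function.Bijective ((Stk.F X x).map φ).hom →
      ∀ i : ℤ, i ≠ 0 →
        x ∉ CohB1.support (DCoh.HD ((DCoh.LTensorCx (Groth.Lead.LTMod.S0 B)).obj (DCoh.inD X A)) i) := by
  obtain ⟨P, hP, hPk, -, ⟨eP⟩⟩ := exists_flat_representative_le (DCoh.inD X A) 0 fun i hi =>
    DerivedCategory.isZero_of_isLE (DCoh.inD X A) 0 i hi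
  haveI := hP
  let R := DCoh.tensorRightMod B
  let G := (R.mapHomologicalComplex (ComplexShape.up ℤ)).obj P
  haveI : CochainComplex.IsStrictlyLE G 0 := (CochainComplex.isStrictlyLE_iff G 0).2 fun i hi =>
    R.map_isZero (P.isZero_of_isStrictlyLE 0 i hi)
  haveI := Assoc.isIso_counit (Groth.Lead.LTMod.S0 B) P hPk
  let eL : (DCoh.LTensorCx (Groth.Lead.LTMod.S0 B)).obj (DCoh.inD X A) ≅ DerivedCategory.Q.obj G :=
    (DCoh.LTensorCx _).mapIso eP.symm ≪≫
      asIso (((DCoh.tensorCxQ (Groth.Lead.LTMod.S0 B)).totalLeftDerivedCounit DerivedCategory.Q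
        (HomologicalComplex.quasiIso X.Modules (ComplexShape.up ℤ))).app P) ≪≫
      DerivedCategory.Q.mapIso ((Groth.Lead.LTMod.cxIso B).app P).symm
  let eH : ∀ i, DCoh.HD ((DCoh.LTensorCx (Groth.Lead.LTMod.S0 B)).obj (DCoh.inD X A)) i ≅ G.homology i := fun i =>
    (DerivedCategory.homologyFunctor _ i).mapIso eL ≪≫ (DerivedCategory.homologyFunctorFactors _ i).app G
  let eA : ∀ i, P.homology i ≅ DCoh.HD (DCoh.inD X A) i := fun i =>
    ((DerivedCategory.homologyFunctorFactors _ i).app P).symm ≪≫ (DerivedCategory.homologyFunctor _ i).mapIso eP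
  refine ⟨?_, ?_, fun φ x hφ i hi => ?_⟩
  · exact DerivedCategory.TStructure.t.isLE_of_iso eL.symm 0
  · obtain ⟨a⟩ := nonempty_homology_zero G
    obtain ⟨p⟩ := nonempty_homology_zero P
    haveI : PreservesFiniteColimits R :=
      haveI : PreservesFiniteColimits (Groth.L00.Tensor.tensorLeftF B) :=
        haveI : PreservesColimitsOfSize.{u, u} (Groth.L00.Tensor.tensorLeftF B) := inferInstance
        inferInstance
      preservesFiniteColimits_of_natIso
        ((Groth.L16.Rees.PushExact.rightModIso B).trans (Groth.L00.Tensor.tensorFlipIso B)).symm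
    exact ⟨eH 0 ≪≫ a ≪≫ (PreservesCokernel.iso R (P.d (-1) 0)).symm ≪≫
      R.mapIso (p.symm ≪≫ eA 0 ≪≫ (Groth.L29.RelPC.nonempty_HD0_inD A).some)⟩
  · let S := Stk.F X x
    let θ : G ⟶ P := ((NatTrans.mapHomologicalComplex (contr φ) (ComplexShape.up ℤ)).app P) ≫
      ((Functor.mapHomologicalComplexIdIso _ _).app P).hom
    haveI : IsIso ((S.mapHomologicalComplex (ComplexShape.up ℤ)).map θ) := by
      haveI : ∀ n, IsIso (((S.mapHomologicalComplex (ComplexShape.up ℤ)).map θ).f n) := fun n => by
        haveI := isIso_stalk_contr φ x hφ (P.X n)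
        simp only [θ, Functor.mapHomologicalComplex_map_f, HomologicalComplex.comp_f, Functor.map_comp]
        change IsIso (S.map ((contr φ).app (P.X n)) ≫ _)
        infer_instance
      exact HomologicalComplex.Hom.isIso_of_components _
    intro hmem
    apply hmem
    refine ModuleCat.subsingleton_of_isZero (IsZero.of_iso ?_ (S.mapIso (eH i)))
    refine IsZero.of_iso (S.map_isZero ((Groth.L29.RelPC.isZero_HD_inD hi).of_iso (eA i)))
      (((G.sc i).mapHomologyIso S).symm ≪≫
        (HomologicalComplex.homologyFunctor _ _ i).mapIso (asIso ((S.mapHomologicalComplex (ComplexShape.up ℤ)).map θ)) ≪≫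
        (P.sc i).mapHomologyIso S)

/-- multiplication of ideals is surjective, and injective off the second support -/
theorem exists_mul_epi (I J : X.IdealSheafData) :
    ∃ l : CohB1.tensorMod (ClSub.idealMod I) (ClSub.idealMod J) ⟶ ClSub.idealMod (I * J), Epi l ∧
      ∀ x : X, x ∉ J.support → Function.Injective ((Stk.F X x).map l).hom := by
  let A := CohB1.tensorMod (ClSub.idealMod I) (ClSub.idealMod J)
  let κ := (contr (ClSub.idealModι J)).app (ClSub.idealMod I)
  let a : A ⟶ Coh.structureModule X := κ ≫ ClSub.idealModι I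
  have ha : ∀ (W : X.Opens) p q, (show Γ(X, W) from a.app W (tens _ _ W p q)) = io I W p * io J W q := by
    intro W p q
    refine (congrArg ((ClSub.idealModι I).app W) ((congrArg
      ((tensorUnitRight (ClSub.idealMod I)).hom.app W)
      (Groth.L16.HomSh.tensorMap_tens (𝟙 (ClSub.idealMod I)) (ClSub.idealModι J) W p q)).trans
      (Groth.L20.ResDescent.tensorUnitRight_app (ClSub.idealMod I) W _ _))).trans ?_
    exact (io_smul I _ _).trans (mul_comm _ _)
  have hz : a ≫ ClSub.toSubscheme (I * J) = 0 := Groth.L16.HomSh.hom_ext_tens fun W p q => by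
    refine (congrArg ((ClSub.toSubscheme (I * J)).app W) (ha W p q)).trans ?_
    exact Groth.L12.RR.app_mul_eq_zero I J W p q
  let l : A ⟶ ClSub.idealMod (I * J) := kernel.lift (ClSub.toSubscheme (I * J)) a hz
  have hl : l ≫ ClSub.idealModι (I * J) = a := kernel.lift_ι _ _ _
  refine ⟨l, ?_, fun x hx => ?_⟩
  · refine (Groth.L21.Mod.epi_iff_stalk_surjective l).2 fun x => ?_
    obtain ⟨V, hV, hxV, -⟩ := exists_isAffineOpen_mem_and_subset (x := x) (U := ⊤) (by trivial)
    let U : X.affineOpens := ⟨V, hV⟩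
    haveI : Coh.IsQCoh A := Groth.L00.Tensor.isQCoh_tensorMod _ _
    refine Groth.L07.PrinParts.stalk_surjective_of_affine l U.2 (fun w => ?_) hxV
    have key : ∀ y ∈ (I * J).ideal U, ∃ z, (show Γ(X, U.1) from a.app U.1 z) = y := by
      intro y hy
      rw [Scheme.IdealSheafData.ideal_mul, Pi.mul_apply] at hy
      refine Submodule.mul_induction_on hy (fun u hu v hv => ?_) (fun u v hu hv => ?_)
      · obtain ⟨p, hp⟩ := (Groth.L18.IdealModule.mem_ideal_iff I U.2 u).1 hu
        obtain ⟨q, hq⟩ := (Groth.L18.IdealModule.mem_ideal_iff J U.2 v).1 hv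
        exact ⟨tens _ _ U.1 p q, (ha U.1 p q).trans (congrArg₂ (· * ·) hp hq)⟩
      · obtain ⟨z₁, rfl⟩ := hu
        obtain ⟨z₂, rfl⟩ := hv
        exact ⟨z₁ + z₂, map_add (a.app U.1).hom z₁ z₂⟩
    obtain ⟨z, hz'⟩ := key _ ((Groth.L18.IdealModule.mem_ideal_iff _ U.2 _).2 ⟨w, rfl⟩)
    refine ⟨z, (Groth.L18.IdealModule.exact_sections (I * J) U.1).1 ?_⟩
    exact (congrArg (fun k => Scheme.Modules.Hom.app k U.1 z) hl).trans hz'
  · have h1 : ((Stk.F X x).map l ≫ (Stk.F X x).map (ClSub.idealModι (I * J))) = (Stk.F X x).map a := by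
      rw [← Functor.map_comp, hl]
    have h2 : Function.Injective ((Stk.F X x).map a).hom := by
      haveI := isIso_stalk_contr (ClSub.idealModι J) x (bijective_idealModι J hx) (ClSub.idealMod I)
      rw [show (Stk.F X x).map a = (Stk.F X x).map κ ≫ (Stk.F X x).map (ClSub.idealModι I) from
        Functor.map_comp _ _ _]
      exact (injective_idealModι I x).comp
        (ConcreteCategory.bijective_of_isIso ((Stk.F X x).map κ)).1
    rw [← h1] at h2
    exact Function.Injective.of_comp h2

end Groth.L29.IdealGV
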